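import Cfsg.Agent.Omega.OM.Lev.Low.TorusM.Fam
import Cfsg.Agent.Omega.OM.Lev.Low.TorusK.EndTK

/-!
# TORUS over `TKM`: the last page over one `S`-orbit of lines

* `exists_zO` : an element of `ZJ` centralised by `S` whose support is the `S`-orbit of `i0`;
* `false_orb` : a frame `TKM`, a family `FamM`, (theta) and the factorisation `H = ⟨H ∩ N(X), H ∩ C(z')⟩` of all local
  groups over `S` for all `z' ∈ ZJ ∩ C(S)` are a contradiction;
* `false_oneM` : for one block.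
-/

set_option autoImplicit false
set_option linter.unusedSectionVars false
set_option linter.unusedVariables false

namespace Cfsg.Agent.Omega.OM.Lev.Low.TorusK.EndOrb

open Subgroup Cfsg Cfsg.Agent.ZN Cfsg.Agent.ZN.ChoiceBase
open Cfsg.Agent.Omega.OM.Lev.Low
open Cfsg.Agent.Omega.OM.Lev.Low.TorusK.PBC

universe u

variable {G : Type u} [Group G]

variable {ι : Type} {S Mg B Q V Xn ZJ B0 X M0 Y0 : Subgroup G} {L W Z C A : ι → Subgroup G} {z : G}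

/-- the `S`-orbit of the line `W i0` -/
def Orb (S : Subgroup G) (W : ι → Subgroup G) (i0 : ι) : Set ι := {i | ∃ s ∈ S, cj s (W i0) = W i}

theorem W_inj (h : TKM S Mg B Q V Xn ZJ B0 X M0 Y0 L W Z C A z) {i j : ι} (e : W i = W j) : i = j := by
  by_contra hne
  have h2 := h.fr.WjC i j hne
  rw [← e] at h2
  have h3 : W i ≤ W i ⊓ C i := le_inf le_rfl h2
  rw [h.fr.dir i] at h3
  have h4 := h.cardW i
  rw [eq_bot_iff.2 h3, Subgroup.card_bot] at h4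
  omega

theorem Orb_cj (h : TKM S Mg B Q V Xn ZJ B0 X M0 Y0 L W Z C A z) {i0 i j : ι} (hi : i ∈ Orb S W i0) {s : G}
    (hs : s ∈ S) (e : cj s (W i) = W j) : j ∈ Orb S W i0 := by
  obtain ⟨t, ht, e'⟩ := hi
  exact ⟨s * t, mul_mem hs ht, by rw [← cj_cj, e', e]⟩

/-- `z_l`: the elements of `S` which normalise `W l` centralise `Z l`. -/
theorem fx [Finite G] (h : TKM S Mg B Q V Xn ZJ B0 X M0 Y0 L W Z C A z) (i0 : ι) :
    ∃ x ∈ W i0, x ≠ 1 ∧ ∀ s ∈ S, s ∈ normalizer (W i0 : Set G) → s * x = x * s := by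
  obtain ⟨x, hx, hx1⟩ := h.exists_Z i0
  refine ⟨x, h.ZW i0 hx, hx1, fun s hs hsW => ?_⟩
  obtain ⟨j, e1, e2, -⟩ := h.perm s (h.SMg hs) i0
  rw [mem_normalizer_iff_cj.1 hsW] at e1
  have e3 := W_inj h e1
  rw [← e3] at e2
  have h3 : s * x * s⁻¹ ∈ Z i0 := by
    have : s * x * s⁻¹ ∈ cj s (Z i0) := ⟨x, hx, rfl⟩
    rwa [e2] at this
  have h4 : s * x * s⁻¹ ≠ 1 := by
    intro e
    apply hx1
    calc x = s⁻¹ * (s * x * s⁻¹) * s := by group
      _ = 1 := by rw [e]; group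
  exact mul_inv_eq_iff_eq_mul.1 (h.Z_two i0 h3 hx h4 hx1)

theorem syl [Finite G] (h : TKM S Mg B Q V Xn ZJ B0 X M0 Y0 L W Z C A z) {i0 : ι} {K N N1 N0 : Subgroup G}
    (k : BK B B0 X M0 Y0 W i0 K N N1 N0) : ∀ s ∈ S, s ∈ normalizer (W i0 : Set G) → ∀ T : Subgroup G, IsPGroup 2 T →
      B ≤ T → T ≤ K ⊔ cj s K ⊔ B → T ≤ B := by
  intro s hs hsW T hT hBT hle
  refine h.syl i0 T hT hBT fun p hp => hle.trans ?_
  have k' := BK.cjM h k (h.SMg hs) (mem_normalizer_iff_cj.1 hsW)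
  refine sup_le (sup_le ?_ ?_) ?_
  · exact fun x hx => mem_centralizer_iff.2 fun w hw => (k.cW p hp w (h.ZW p hw) x hx).symm
  · exact fun x hx => mem_centralizer_iff.2 fun w hw => (k'.cW p hp w (h.ZW p hw) x hx).symm
  · exact fun x hx => mem_centralizer_iff.2 fun w hw => (((h.fr.mem_ZJ w).1 (h.fr.Z_le p hw)).2 x hx).symm

/-- an element of `ZJ ∩ C(S)` whose support is the `S`-orbit of `i0` -/
theorem exists_zO [Finite G] [Finite ι] (h : TKM S Mg B Q V Xn ZJ B0 X M0 Y0 L W Z C A z) (i0 : ι) :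
    ∃ zo ∈ ZJ, (∀ s ∈ S, s * zo = zo * s) ∧ zo ∈ (⨆ i : Orb S W i0, Z i) ∧ (∀ i ∉ Orb S W i0, zo ∈ C i) ∧
      ∀ i ∈ Orb S W i0, zo ∉ C i := by
  set U : Subgroup G := ⨆ i : Orb S W i0, Z i with hU
  have hUJ : U ≤ ZJ := iSup_le fun i => h.fr.Z_le i
  have hUS : U ≤ S := fun x hx => h.BS (h.B0B (h.XB0 (h.ZJX (hUJ hx))))
  have hUC : ∀ i ∉ Orb S W i0, U ≤ C i := fun i hi => iSup_le fun j => (h.ZW j).trans
    (h.fr.WjC i j fun e => hi (e ▸ j.2))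
  have hi0 : i0 ∈ Orb S W i0 := ⟨1, one_mem _, cj_one _⟩
  have hUne : U ≠ ⊥ := fun e => by
    obtain ⟨x, hx, hx1⟩ := h.exists_Z i0
    have h1 : x ∈ U := (le_iSup (fun i : Orb S W i0 => Z i) ⟨i0, hi0⟩) hx
    rw [e, mem_bot] at h1
    exact hx1 h1
  have hUn : S ≤ normalizer (U : Set G) := by
    have key : ∀ s ∈ S, cj s U ≤ U := by
      intro s hs
      rw [cj_le_iff]
      refine iSup_le fun i => ?_
      rw [← cj_le_iff]
      obtain ⟨j, e1, e2, -⟩ := h.perm s (h.SMg hs) i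
      rw [e2]
      exact le_iSup (fun i : Orb S W i0 => Z i) ⟨j, Orb_cj h i.2 hs e1⟩
    intro s hs
    rw [mem_normalizer_iff_cj]
    refine le_antisymm (key s hs) ?_
    have h1 := cj_mono s (key s⁻¹ (inv_mem hs))
    rwa [cj_cj, mul_inv_cancel, cj_one] at h1
  have h5 := PLocal.OffenderStep.inf_centralizer_ne_bot U S (h.two.to_le hUS) h.two hUn hUne
  obtain ⟨⟨zo, hzo⟩, hzo1⟩ := (Subgroup.ne_bot_iff_exists_ne_one).1 h5
  obtain ⟨hzU, hzS⟩ := mem_inf.1 hzo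
  replace hzo1 : zo ≠ 1 := fun e => hzo1 (Subtype.ext e)
  refine ⟨zo, hUJ hzU, fun s hs => mem_centralizer_iff.1 hzS s hs, hzU, fun i hi => hUC i hi hzU, fun i hi hzi => hzo1 ?_⟩
  refine h.fr.C0 zo (h.fr.ZJV (hUJ hzU)) fun j => ?_
  by_cases hj : j ∈ Orb S W i0
  · obtain ⟨s, hs, e⟩ := hi
    obtain ⟨t, ht, e'⟩ := hj
    have hr : t * s⁻¹ ∈ S := mul_mem ht (inv_mem hs)
    have e2 : cj (t * s⁻¹) (W i) = W j := by
      rw [← e, cj_cj, show t * s⁻¹ * s = t by group, e']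
    obtain ⟨m, m1, -, m3⟩ := h.perm _ (h.SMg hr) i
    have hm : m = j := W_inj h (by rw [← m1, e2])
    rw [← hm, ← m3]
    refine mem_cj'.2 ?_
    have h6 := mem_centralizer_iff.1 hzS _ hr
    have h7 : (t * s⁻¹)⁻¹ * zo * (t * s⁻¹) = zo := by
      calc (t * s⁻¹)⁻¹ * zo * (t * s⁻¹) = (t * s⁻¹)⁻¹ * (zo * (t * s⁻¹)) := by group
        _ = (t * s⁻¹)⁻¹ * ((t * s⁻¹) * zo) := by rw [h6]
        _ = zo := by group
    rw [h7]
    exact hzi
  · exact hUC j hj hzU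

/-- **The last page over the `S`-orbit of `i0`.** -/
theorem false_orb [Finite G] [Finite ι] (h : TKM S Mg B Q V Xn ZJ B0 X M0 Y0 L W Z C A z) (i0 : ι)
    {K N N1 N0 : ι → Subgroup G} (f : FamM S Mg B B0 X M0 Y0 W K N N1 N0)
    (theta : ∀ m, ∃ R ≤ K m, K m ≤ normalizer (R : Set G) ∧ K m ≤ R ⊔ B0 ∧
      ∀ l, l ≠ m → R ≤ centralizer ((⁅N l, K l⁆ : Subgroup G) : Set G))
    (fact : ∀ z' ∈ ZJ, (∀ s ∈ S, s * z' = z' * s) → ∀ H : Subgroup G, S ≤ H →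
      (∃ U : Subgroup G, U ≠ ⊥ ∧ IsPGroup 2 U ∧ H ≤ normalizer (U : Set G)) →
      H ≤ (H ⊓ normalizer (X : Set G)) ⊔ (H ⊓ centralizer ({z'} : Set G))) : False := by
  obtain ⟨zo, hzJ, hzS, hzU, -, hzC⟩ := exists_zO h i0
  choose R hRK hKR hKRB hRF using theta
  have hi0 : i0 ∈ Orb S W i0 := ⟨1, one_mem _, cj_one _⟩
  have D : EndD.Dt (ι := Orb S W i0) S B B0 X (fun m => K m) (fun m => ⁅N m, K m⁆) (fun m => W m) (fun m => R m)
      ⟨i0, hi0⟩ zo :=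
    { two := h.two
      BS := h.BS
      B0B := h.B0B
      SB := h.SMg.trans h.SB
      SB0 := h.SMg.trans h.SB0
      n4 := fun m => (f.bk m).n4M h
      FX := fun m => (f.bk m).inf_XM h
      FB0 := fun m => (EndTK.F_le (f.bk m)).trans (f.bk m).pb.NB
      perm := fun s hs i => by
        obtain ⟨j, e, -, -⟩ := h.perm s (h.SMg hs) i
        exact ⟨⟨j, Orb_cj h i.2 hs e⟩, e, f.chi s (h.SMg hs) i j e⟩
      tr := fun m => by
        obtain ⟨s, hs, e, e'⟩ := f.conjS i0 m m.2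
        exact ⟨s, hs, e', e⟩
      RK := fun m => hRK m
      KR := fun m => hKR m
      KRB := fun m => hKRB m
      RF := fun m l hl r hr f' hf => (mem_centralizer_iff.1 (hRF m l (fun e => hl (Subtype.ext e)) hr) f' hf).symm
      BW := fun b hb => mem_normalizer_iff_cj.2 (h.BW hb i0)
      BL := (f.na i0).linesM h (f.bk i0)
      fx := fx h i0
      mv := by
        obtain ⟨t, ht, -, w, hw, hne⟩ := h.exists_t i0
        exact ⟨t, ht, w, hw, hne⟩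
      syl := syl h (f.bk i0)
      zW := (iSup_le fun i => (h.ZW i).trans (le_iSup (fun i : Orb S W i0 => W i) i) :
        (⨆ i : Orb S W i0, Z i) ≤ ⨆ i : Orb S W i0, W i) hzU
      zn0 := fun i hi => hzC i i.2 ((iSup₂_le fun l hl => h.fr.WjC i l fun e => hl (Subtype.ext e.symm) :
        (⨆ (l : Orb S W i0) (_ : l ≠ i), W l) ≤ C i) hi)
      fact := fact zo hzJ hzS }
  exact D.false

/-- **One block.** -/
theorem false_oneM [Finite G] [Finite ι] (h : TKM S Mg B Q V Xn ZJ B0 X M0 Y0 L W Z C A z) {l : ι}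
    {K N N1 N0 : Subgroup G} (k : BK B B0 X M0 Y0 W l K N N1 N0) (a : NA B K N)
    (theta : ∀ K N N1 N0 : ι → Subgroup G, FamM S Mg B B0 X M0 Y0 W K N N1 N0 → ∀ m,
      ∃ R ≤ K m, K m ≤ normalizer (R : Set G) ∧ K m ≤ R ⊔ B0 ∧
        ∀ l, l ≠ m → R ≤ centralizer ((⁅N l, K l⁆ : Subgroup G) : Set G))
    (fact : ∀ z' ∈ ZJ, (∀ s ∈ S, s * z' = z' * s) → ∀ H : Subgroup G, S ≤ H →
      (∃ U : Subgroup G, U ≠ ⊥ ∧ IsPGroup 2 U ∧ H ≤ normalizer (U : Set G)) →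
      H ≤ (H ⊓ normalizer (X : Set G)) ⊔ (H ⊓ centralizer ({z'} : Set G))) : False := by
  obtain ⟨K, N, N1, N0, f⟩ := exists_famM h k a
  exact false_orb h l f (theta K N N1 N0 f) fact

end Cfsg.Agent.Omega.OM.Lev.Low.TorusK.EndOrb
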