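import Cfsg.Agent.Omega.OM.Lev.Low.TorusM.NFour
import Cfsg.Agent.Omega.OM.Lev.Low.TorusK.Fam

/-!
# TORUS, `k ≥ 3` (helper607 #23961): the family of blocks

* `NA B K N` : `B` normalises `[N, K]`, and `B` acts on `N` by conjugation on the image of `K`;
* `NA.cj`, `NA.lines`;
* `Fam` : blocks `K i` over all lines `W i`, with (chi);
* `exists_fam` : a block gives a family (`Chi.Inp.eq`).
-/

set_option autoImplicit false
set_option linter.unusedSectionVars false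

namespace Cfsg.Agent.Omega.OM.Lev.Low.TorusK

open Subgroup Cfsg Cfsg.Agent.ZN Cfsg.Agent.ZN.ChoiceBase
open Cfsg.Agent.Omega.SQ1.Bau (mem_sup_comm card_sup_comm elem_comm elem_sq)
open Cfsg.Agent.Omega.NO3S.Level.Claim (Fm Bl cB mem_cB cB_le)
open Cfsg.Agent.Omega.OM.Lev.Uni (FrL)
open Cfsg.Agent.Omega.OM.Lev.Low.TorusK.PBC

universe u

variable {G : Type u} [Group G]

variable {ι : Type} {S Mg B Q V Xn ZJ B0 X M0 Y0 : Subgroup G} {L W Z C A : ι → Subgroup G} {z : G}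
  {l : ι} {K N N1 N0 : Subgroup G}

/-- `B` permutes the lines. -/
theorem NA.linesM [Finite G] (h : TKM S Mg B Q V Xn ZJ B0 X M0 Y0 L W Z C A z) (k : BK B B0 X M0 Y0 W l K N N1 N0)
    (a : NA B K N) : ∀ b ∈ B, ∀ g ∈ K, ∃ g' ∈ K, ChoiceBase.cj b (ChoiceBase.cj g (W l)) = ChoiceBase.cj g' (W l) := by
  intro b hb g hg
  obtain ⟨g', hg', h1⟩ := a.act b hb g hg
  refine ⟨g', hg', ?_⟩
  have h2 : ∀ w ∈ W l, w ∈ N := fun w hw => k.pb.N1N (k.WN hw)
  have h3 : ChoiceBase.cj (b * g * b⁻¹) (W l) = ChoiceBase.cj g' (W l) := by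
    ext x
    constructor
    · intro hx
      obtain ⟨w, hw, rfl⟩ := ex_cj hx
      rw [h1 w (h2 w hw)]
      exact cj_mem hw
    · intro hx
      obtain ⟨w, hw, rfl⟩ := ex_cj hx
      rw [← h1 w (h2 w hw)]
      exact cj_mem hw
  rw [← h3, cj_cj]
  conv_rhs => rw [← h.BW hb l, cj_cj]
  congr 1
  group

/-- `K` is transitive on the non-trivial elements of the module. -/
theorem BK.trM [Finite G] [Finite ι] (h : TKM S Mg B Q V Xn ZJ B0 X M0 Y0 L W Z C A z)
    (k : BK B B0 X M0 Y0 W l K N N1 N0) {zl : G} (hz : zl ∈ W l) (hz1 : zl ≠ 1) :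
    ∀ v ∈ (⁅N, K⁆ : Subgroup G), v ≠ 1 → ∃ e ∈ K, e * zl * e⁻¹ = v := by
  intro v hv hv1
  have n4 := k.n4M h
  have m4 := (SigN4.toSig n4).toM4
  by_cases hvW : v ∈ W l
  · obtain ⟨e, he, -, h1⟩ := n4.tor zl hz hz1 v hvW hv1
    exact ⟨e, he, h1⟩
  · obtain ⟨x, hx, hm⟩ := n4.mv
    have hne : ChoiceBase.cj x (W l) ≠ W l := by
      intro e
      obtain ⟨w, hw, hw'⟩ := hm
      exact hw' (e ▸ cj_mem hw)
    obtain ⟨p, hp, q, hq, e1⟩ := m4.compl hx hne hv
    have hqn : q ∉ W l := by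
      intro h1
      exact hvW (e1 ▸ mul_mem hp h1)
    have hqV : q ∈ (⁅N, K⁆ : Subgroup G) := m4.lineV hx hq
    obtain ⟨b, hb, e2⟩ := m4.full hqV hqn hp
    obtain ⟨q0, hq0, e3⟩ := ex_cj hq
    have hq01 : q0 ≠ 1 := by
      rintro rfl
      apply hqn
      rw [e3]
      simp
    obtain ⟨e, he, -, e4⟩ := n4.tor zl hz hz1 q0 hq0 hq01
    refine ⟨b * x * e, mul_mem (mul_mem (n4.BK hb) hx) he, ?_⟩
    have e5 : b * x * e * zl * (b * x * e)⁻¹ = b * (x * (e * zl * e⁻¹) * x⁻¹) * b⁻¹ := by group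
    rw [e5, e4, ← e3, e1, ← e2]
    rfl

/-- **(chi)**: two blocks over the same line have the same module. -/
theorem BK.chiM [Finite G] [Finite ι] (h : TKM S Mg B Q V Xn ZJ B0 X M0 Y0 L W Z C A z)
    (k : BK B B0 X M0 Y0 W l K N N1 N0) (a : NA B K N) {K' N' N1' N0' : Subgroup G}
    (k' : BK B B0 X M0 Y0 W l K' N' N1' N0') (a' : NA B K' N') : ⁅N', K'⁆ = ⁅N, K⁆ := by
  obtain ⟨zl, hzl, zo, hzo, -, ez⟩ := h.fr.split_ZJ l h.zJ
  have hzl1 : zl ≠ 1 := fun e => h.zC l (by rw [ez, e, one_mul]; exact hzo)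
  have hFX : ∀ x ∈ (⁅N, K⁆ : Subgroup G), ∀ y ∈ X, x * y = y * x := fun x hx y hy => h.cX (k.VB0 hx) hy
  have hFF : ∀ x ∈ (⁅N, K⁆ : Subgroup G), ∀ y ∈ (⁅N, K⁆ : Subgroup G), x * y = y * x := fun x hx y hy =>
    k.pb.comm (k.pb.VN hx) (k.pb.VN hy)
  have hzoJ : zo ∈ ZJ := by
    have : zo = zl⁻¹ * z := by rw [ez]; group
    rw [this]
    exact mul_mem (inv_mem (h.fr.Z_le l hzl)) h.zJ
  have hcen : ∀ {K' N' N1' N0' : Subgroup G}, BK B B0 X M0 Y0 W l K' N' N1' N0' → ∀ e ∈ K', e * zo = zo * e := by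
    intro K' N' N1' N0' k' e he
    have h1 : zo ∈ centralizer (K' : Set G) := h.mem_of_C (l := l) (fun p hp => (h.ZW p).trans fun w hw =>
      mem_centralizer_iff.2 fun g hg => k'.cW p hp w hw g hg) hzoJ hzo
    exact mem_centralizer_iff.1 h1 e he
  have hzlW : zl ∈ W l := h.ZW l hzl
  have inp : Chi.Inp B X (X ⊓ centralizer (K : Set G)) ⁅N, K⁆ ⁅N', K'⁆ (W l) K K' zl zo :=
    { ab := by
        intro x hx y hy
        obtain ⟨x1, hx1, x2, hx2, rfl⟩ := mem_sup_comm hFX hx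
        obtain ⟨y1, hy1, y2, hy2, rfl⟩ := mem_sup_comm hFX hy
        have c1 : Commute x1 y1 := hFF x1 hx1 y1 hy1
        have c2 : Commute x1 y2 := hFX x1 hx1 y2 hy2
        have c3 : Commute x2 y1 := (hFX y1 hy1 x2 hx2).symm
        have c4 : Commute x2 y2 := h.Xc hx2 hy2
        exact ((c1.mul_right c2).mul_left (c3.mul_right c4))
      le := (uniM' h k k').1
      FX := (k.inf_XM h).le
      FX' := (k'.inf_XM h).le
      cF := k.W_leM h
      cF' := k'.W_leM h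
      dec := by
        intro x hx
        obtain ⟨w, hw, c, hc, hcK, rfl⟩ := k.splitXM h hx
        exact mul_mem (mem_sup_left hw) (mem_sup_right (mem_inf.2 ⟨hc, mem_centralizer_iff.2 hcK⟩))
      XkX := inf_le_left
      cXk := by
        rw [eq_bot_iff]
        rintro x ⟨hx, -, hx2⟩
        rw [mem_bot]
        exact k.W_cen hx (mem_centralizer_iff.1 hx2)
      card := by rw [k.card16M h, k'.card16M h]
      pB := h.twoB
      FB := k.VB0.trans h.B0B
      nF := a.nF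
      nF' := a'.nF
      nXk := k.BX
      tr := k.trM h hzlW hzl1
      tr' := k'.trM h hzlW hzl1
      Kz := hcen k
      Kz' := hcen k'
      KX := fun e he x hx => mem_centralizer_iff.1 hx.2 e he
      zoX := mem_sup_right (h.ZJX hzoJ)
      no_shift := by
        intro x hx hxB g hg
        refine h.no_shift h.zJ h.zC (h.mem_ZJ_of hx.1 hxB) (g := g) ?_
        rw [ez]
        exact hg }
  exact inp.eq

/-- The family of blocks: `Mg`-conjugate, and `S`-conjugate inside the `S`-orbits of lines. -/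
structure FamM (S Mg B B0 X M0 Y0 : Subgroup G) (W K N N1 N0 : ι → Subgroup G) : Prop where
  bk : ∀ i, BK B B0 X M0 Y0 W i (K i) (N i) (N1 i) (N0 i)
  na : ∀ i, NA B (K i) (N i)
  chi : ∀ s ∈ Mg, ∀ i j, ChoiceBase.cj s (W i) = W j → ChoiceBase.cj s ⁅N i, K i⁆ = ⁅N j, K j⁆
  conj : ∀ i j, ∃ s ∈ Mg, ChoiceBase.cj s (W i) = W j ∧ ChoiceBase.cj s (K i) = K j
  conjS : ∀ i j, (∃ s ∈ S, ChoiceBase.cj s (W i) = W j) → ∃ s ∈ S, ChoiceBase.cj s (W i) = W j ∧
    ChoiceBase.cj s (K i) = K j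

/-- `Fam` with `S := Mg`. -/
theorem FamM.toFam {K N N1 N0 : ι → Subgroup G} (f : FamM S Mg B B0 X M0 Y0 W K N N1 N0) :
    Fam Mg B B0 X M0 Y0 W K N N1 N0 := ⟨f.bk, f.na, f.chi, f.conj⟩

/-- **The family.** -/
theorem exists_famM [Finite G] [Finite ι] (h : TKM S Mg B Q V Xn ZJ B0 X M0 Y0 L W Z C A z)
    (k : BK B B0 X M0 Y0 W l K N N1 N0) (a : NA B K N) :
    ∃ K N N1 N0 : ι → Subgroup G, FamM S Mg B B0 X M0 Y0 W K N N1 N0 := by
  classical
  -- representatives of the `S`-orbits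
  let st : Setoid ι :=
    { r := fun i j => ∃ s ∈ S, ChoiceBase.cj s (W i) = W j
      iseqv :=
        { refl := fun i => ⟨1, one_mem _, cj_one _⟩
          symm := by
            rintro i j ⟨s, hs, e⟩
            exact ⟨s⁻¹, inv_mem hs, by rw [← e, cj_cj, inv_mul_cancel, cj_one]⟩
          trans := by
            rintro i j r ⟨s, hs, e⟩ ⟨t, ht, e'⟩
            exact ⟨t * s, mul_mem ht hs, by rw [← cj_cj, e, e']⟩ } }
  let rep : ι → ι := fun i => (Quotient.mk st i).out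
  have hrep : ∀ i, ∃ s ∈ S, ChoiceBase.cj s (W (rep i)) = W i := fun i =>
    Quotient.exact (Quotient.out_eq (Quotient.mk st i))
  have hrr : ∀ i j, (∃ s ∈ S, ChoiceBase.cj s (W i) = W j) → rep i = rep j := fun i j hij =>
    congrArg Quotient.out (Quotient.sound (s := st) hij)
  choose t ht et using hrep
  choose g hg eg using h.tr l
  let s : ι → G := fun i => t i * g (rep i)
  have hs : ∀ i, s i ∈ Mg := fun i => mul_mem (h.SMg (ht i)) (hg (rep i))
  have e : ∀ i, ChoiceBase.cj (s i) (W l) = W i := fun i => by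
    show ChoiceBase.cj (t i * g (rep i)) (W l) = W i
    rw [← cj_cj, eg, et]
  have hb : ∀ i, BK B B0 X M0 Y0 W i (ChoiceBase.cj (s i) K) (ChoiceBase.cj (s i) N) (ChoiceBase.cj (s i) N1)
      (ChoiceBase.cj (s i) N0) := fun i => BK.cjM h k (hs i) (e i)
  have ha : ∀ i, NA B (ChoiceBase.cj (s i) K) (ChoiceBase.cj (s i) N) := fun i => a.cj (h.SB (hs i))
  refine ⟨fun i => ChoiceBase.cj (s i) K, fun i => ChoiceBase.cj (s i) N, fun i => ChoiceBase.cj (s i) N1,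
    fun i => ChoiceBase.cj (s i) N0, hb, ha, fun t ht i j hij => ?_, fun i j => ?_, fun i j hij => ?_⟩
  · rw [← comm_cjj]
    exact BK.chiM h (hb j) (ha j) (BK.cjM h (hb i) ht hij) ((ha i).cj (h.SB ht))
  · refine ⟨s j * (s i)⁻¹, mul_mem (hs j) (inv_mem (hs i)), ?_, ?_⟩
    · rw [← e i, cj_cj, inv_mul_cancel_right, e j]
    · rw [cj_cj, inv_mul_cancel_right]
  · have h1 := hrr i j hij
    have h2 : s j * (s i)⁻¹ = t j * (t i)⁻¹ := by
      show t j * g (rep j) * (t i * g (rep i))⁻¹ = t j * (t i)⁻¹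
      rw [h1]
      group
    refine ⟨t j * (t i)⁻¹, mul_mem (ht j) (inv_mem (ht i)), ?_, ?_⟩
    · rw [← h2, ← e i, cj_cj, inv_mul_cancel_right, e j]
    · rw [← h2, cj_cj, inv_mul_cancel_right]

end Cfsg.Agent.Omega.OM.Lev.Low.TorusK
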