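import Cfsg.Agent.Omega.OM.Lev.Low.TorusM.Loc
import Cfsg.Agent.Omega.OM.Lev.Low.TorusM.Fam

/-!
# TORUS over `Mg ≥ S`: (LOC) and (theta) for a family of blocks

A family of blocks `K i`, `F i = [N i, K i]`, permuted by `Mg`.

* `ThetaM.fam_normM` : all `K i` normalise `X ∏ F j`;
* `kill` : `r ∈ K m ∩ N(B₀)` cannot act on `1 ≠ w ∈ F l` as `w ↦ w κ`, `1 ≠ κ ∈ W m`;
* `theta` : for every `m` there is `R ⊴ K m` with `K m ≤ R B₀` which centralises all `F l`, `l ≠ m`.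
-/

set_option autoImplicit false
set_option linter.unusedSectionVars false

namespace Cfsg.Agent.Omega.OM.Lev.Low.TorusK

open Subgroup Cfsg Cfsg.Agent.ZN Cfsg.Agent.ZN.ChoiceBase
open Cfsg.Agent.Omega.SQ1.Bau (mem_sup_comm card_sup_comm elem_comm elem_sq Mv)
open Cfsg.Agent.Omega.NO3b.FPB.Base (cW mem_cW cW_le)
open Cfsg.Agent.Omega.NO3S.Level.Claim (Fm Bl cB mem_cB cB_le)
open Cfsg.Agent.Omega.NO3S.ThmB (Fam Fr DM)
open Cfsg.Agent.Omega.OM.Lev.Uni (FrL)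
open Cfsg.Agent.Omega.OM.Lev.Low.TorusK.PBC
open scoped commutatorElement

universe u

variable {G : Type u} [Group G] {ι : Type} {S Mg B Q V Xn ZJ B0 X M0 Y0 : Subgroup G} {L W Z C A : ι → Subgroup G} {z : G}

section fam

variable {K N N1 N0 : ι → Subgroup G}

namespace ThetaM

/-- `F i`, `F j` commute -/
theorem fam_commM [Finite G] (h : TKM S Mg B Q V Xn ZJ B0 X M0 Y0 L W Z C A z)
    (bk : ∀ i, BK B B0 X M0 Y0 W i (K i) (N i) (N1 i) (N0 i)) (i j : ι) {u v : G} (hu : u ∈ (⁅N i, K i⁆ : Subgroup G))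
    (hv : v ∈ (⁅N j, K j⁆ : Subgroup G)) : u * v = v * u := Loc.comm_allM h (bk i) (bk j) hu hv

theorem fam_le_B0M [Finite G] (h : TKM S Mg B Q V Xn ZJ B0 X M0 Y0 L W Z C A z)
    (bk : ∀ i, BK B B0 X M0 Y0 W i (K i) (N i) (N1 i) (N0 i)) : X ⊔ ⨆ i, (⁅N i, K i⁆ : Subgroup G) ≤ B0 :=
  sup_le h.XB0 (iSup_le fun i => (bk i).VB0)

theorem fam_commM' [Finite G] (h : TKM S Mg B Q V Xn ZJ B0 X M0 Y0 L W Z C A z)
    (bk : ∀ i, BK B B0 X M0 Y0 W i (K i) (N i) (N1 i) (N0 i)) {a b : G}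
    (ha : a ∈ X ⊔ ⨆ i, (⁅N i, K i⁆ : Subgroup G)) (hb : b ∈ X ⊔ ⨆ i, (⁅N i, K i⁆ : Subgroup G)) : a * b = b * a := by
  have key : ∀ x, (∀ y ∈ X, y * x = x * y) → (∀ i, ∀ y ∈ (⁅N i, K i⁆ : Subgroup G), y * x = x * y) →
      ∀ y ∈ X ⊔ ⨆ i, (⁅N i, K i⁆ : Subgroup G), y * x = x * y := by
    intro x h1 h2 y hy
    have h3 : X ⊔ ⨆ i, (⁅N i, K i⁆ : Subgroup G) ≤ centralizer ({x} : Set G) :=
      sup_le (fun y hy => mem_centralizer_singleton_iff.2 (h1 y hy))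
        (iSup_le fun i y hy => mem_centralizer_singleton_iff.2 (h2 i y hy))
    exact mem_centralizer_singleton_iff.1 (h3 hy)
  refine key b (fun x hx => (key x ?_ ?_ b hb).symm) (fun i x hx => (key x ?_ ?_ b hb).symm) a ha
  · exact fun y hy => h.Xc hy hx
  · exact fun i y hy => h.cX ((bk i).VB0 hy) hx
  · exact fun y hy => (h.cX ((bk i).VB0 hx) hy).symm
  · exact fun j y hy => Loc.comm_allM h (bk j) (bk i) hy hx

/-- **(LOC)** : all `K i` normalise `X ∏ F j`. -/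
theorem fam_normM [Finite G] [Finite ι] (h : TKM S Mg B Q V Xn ZJ B0 X M0 Y0 L W Z C A z)
    (bk : ∀ i, BK B B0 X M0 Y0 W i (K i) (N i) (N1 i) (N0 i)) (i : ι) :
    K i ≤ normalizer ((X ⊔ ⨆ j, ⁅N j, K j⁆ : Subgroup G) : Set G) := by
  have hF : ∀ j, (⁅N j, K j⁆ : Subgroup G) ≤ X ⊔ ⨆ j, ⁅N j, K j⁆ := fun j =>
    (le_iSup (fun j => (⁅N j, K j⁆ : Subgroup G)) j).trans le_sup_right
  have key : ∀ g ∈ K i, cj g (X ⊔ ⨆ j, ⁅N j, K j⁆) ≤ X ⊔ ⨆ j, ⁅N j, K j⁆ := by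
    intro g hg
    rw [cj_le_iff]
    have hcj : ∀ y : G, y ∈ cj g⁻¹ (X ⊔ ⨆ j, ⁅N j, K j⁆) ↔ g * y * g⁻¹ ∈ X ⊔ ⨆ j, ⁅N j, K j⁆ := fun y => by
      rw [mem_cj', inv_inv]
    refine sup_le (fun x hx => (hcj x).2 ?_) (iSup_le fun j v hv => (hcj v).2 ?_)
    · have h1 := mul_mem (hF i ((bk i).actM h hg hx)) (mem_sup_left hx : x ∈ X ⊔ ⨆ j, ⁅N j, K j⁆)
      rwa [inv_mul_cancel_right] at h1
    · by_cases e : i = j
      · subst e
        exact hF i ((mem_normalizer_iff.1 ((bk i).pb.LV hg) v).1 hv)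
      · have h1 := Loc.pair_normM h e (bk i) (bk j) ((bk j).inf_XM h).le hg hv
        have h2 : ⁅N i, K i⁆ ⊔ ⁅N j, K j⁆ ⊔ X ≤ X ⊔ ⨆ j, ⁅N j, K j⁆ := sup_le (sup_le (hF i) (hF j)) le_sup_left
        exact h2 h1
  intro g hg
  rw [mem_normalizer_iff_cj]
  refine le_antisymm (key g hg) ?_
  have h1 := cj_mono g (key g⁻¹ (inv_mem hg))
  rwa [cj_cj, mul_inv_cancel, cj_one] at h1

/-- `S` normalises `X ∏ F j` if it permutes the `F j` -/
theorem fam_SM [Finite G] (h : TKM S Mg B Q V Xn ZJ B0 X M0 Y0 L W Z C A z)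
    (hp : ∀ s ∈ Mg, ∀ i, ∃ j, cj s ⁅N i, K i⁆ = ⁅N j, K j⁆) :
    Mg ≤ normalizer ((X ⊔ ⨆ j, ⁅N j, K j⁆ : Subgroup G) : Set G) := by
  have key : ∀ g ∈ Mg, cj g (X ⊔ ⨆ j, ⁅N j, K j⁆) ≤ X ⊔ ⨆ j, ⁅N j, K j⁆ := by
    intro g hg
    rw [show cj g (X ⊔ ⨆ j, ⁅N j, K j⁆) = (X ⊔ ⨆ j, ⁅N j, K j⁆).map (MulAut.conj g).toMonoidHom from rfl,
      Subgroup.map_sup, Subgroup.map_iSup]
    refine sup_le ?_ (iSup_le fun i => ?_)
    · have e : X.map (MulAut.conj g).toMonoidHom = X := cj_eq_of_mem_normalizer (h.SX hg)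
      rw [e]
      exact le_sup_left
    · obtain ⟨j, hj⟩ := hp g hg i
      have e : (⁅N i, K i⁆ : Subgroup G).map (MulAut.conj g).toMonoidHom = ⁅N j, K j⁆ := hj
      rw [e]
      exact (le_iSup (fun j => (⁅N j, K j⁆ : Subgroup G)) j).trans le_sup_right
  intro g hg
  rw [mem_normalizer_iff_cj]
  refine le_antisymm (key g hg) ?_
  have h1 := cj_mono g (key g⁻¹ (inv_mem hg))
  rwa [cj_cj, mul_inv_cancel, cj_one] at h1

end ThetaM

end fam

namespace ThetaM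

section line

variable {l m : ι} {K N N1 N0 K' N' N1' N0' : Subgroup G}

theorem mem_sup_norm {H D : Subgroup G} (hn : H ≤ normalizer (D : Set G)) {x : G} (hx : x ∈ H ⊔ D) :
    ∃ a ∈ H, ∃ b ∈ D, x = a * b := by
  have h1 : x ∈ ((H ⊔ D : Subgroup G) : Set G) := hx
  rw [coe_mul_of_left_le_normalizer_right H D hn] at h1
  obtain ⟨a, ha, b, hb, hab⟩ := h1
  exact ⟨a, ha, b, hb, hab.symm⟩

/-- the torus normalises the line -/
theorem norm_line [Finite G] [Finite ι] (h : TKM S Mg B Q V Xn ZJ B0 X M0 Y0 L W Z C A z)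
    (k : BK B B0 X M0 Y0 W l K N N1 N0) {t w : G} (ht : t ∈ K) (htB : t ∈ normalizer (B0 : Set G)) (hw : w ∈ W l) :
    t * w * t⁻¹ ∈ W l := by
  rw [← k.inf_XM h] at hw ⊢
  refine ⟨(mem_normalizer_iff.1 (k.pb.LV ht) w).1 hw.1, ?_⟩
  have hX : cj t X = X := by
    rw [← h.zB, ← zc_cj', cj_eq_of_mem_normalizer htB]
  rw [← hX]
  exact cj_mem hw.2

/-- **(W) kills `w ↦ w κ`.** -/
theorem kill [Finite G] [Finite ι] (h : TKM S Mg B Q V Xn ZJ B0 X M0 Y0 L W Z C A z) (hlm : l ≠ m)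
    (k : BK B B0 X M0 Y0 W l K N N1 N0) (k' : BK B B0 X M0 Y0 W m K' N' N1' N0') {w κ r : G}
    (hw : w ∈ (⁅N, K⁆ : Subgroup G)) (hw1 : w ≠ 1) (hr : r ∈ K') (hrB : r ∈ normalizer (B0 : Set G))
    (hκ : κ ∈ W m) (hκ1 : κ ≠ 1) (hrw : r * w * r⁻¹ = w * κ) : False := by
  obtain ⟨zl, hzl, zo, hzo, -, ez⟩ := h.fr.split_ZJ l h.zJ
  have hzl1 : zl ≠ 1 := fun e => h.zC l (by rw [ez, e, one_mul]; exact hzo)
  have hzlW : zl ∈ W l := h.ZW l hzl
  have hzoJ : zo ∈ ZJ := by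
    have : zo = zl⁻¹ * z := by rw [ez]; group
    rw [this]
    exact mul_mem (inv_mem (h.fr.Z_le l hzl)) h.zJ
  obtain ⟨zm, hzm, hzm1⟩ := h.exists_Z m
  obtain ⟨e, he, ew⟩ := k.trM h hzlW hzl1 w hw hw1
  obtain ⟨t, ht, htB, et⟩ := (k'.n4M h).tor κ hκ hκ1 zm (h.ZW m hzm) hzm1
  -- the action of `r`, `e`, `t` on the lines
  have hrl : r * zl * r⁻¹ = zl := by rw [k'.cW l hlm zl hzlW r hr]; group
  have htl : t * zl * t⁻¹ = zl := by rw [k'.cW l hlm zl hzlW t ht]; group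
  have heκ : e⁻¹ * κ * e = κ := by
    have h1 := k.cW m (Ne.symm hlm) κ hκ e he
    rw [mul_assoc, ← h1]; group
  set d := e⁻¹ * (r * e * r⁻¹) with hd
  have hdz : d * zl * d⁻¹ = zl * κ := by
    calc d * zl * d⁻¹ = e⁻¹ * (r * (e * (r⁻¹ * zl * r) * e⁻¹) * r⁻¹) * e := by rw [hd]; group
      _ = e⁻¹ * (r * (e * zl * e⁻¹) * r⁻¹) * e := by
          have : r⁻¹ * zl * r = zl := by
            have h1 := k'.cW l hlm zl hzlW r hr
            rw [mul_assoc, ← h1]; group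
          rw [this]
      _ = e⁻¹ * (w * κ) * e := by rw [ew, hrw]
      _ = (e⁻¹ * w * e) * (e⁻¹ * κ * e) := by group
      _ = zl * κ := by rw [heκ, ← ew]; group
  -- `d` fixes all other lines
  have hinvW : ∀ p, ∀ y ∈ W p, r⁻¹ * y * r ∈ W p := by
    intro p y hy
    by_cases hp : p = m
    · subst hp
      have h1 := norm_line h k' (inv_mem hr) (inv_mem hrB) hy
      rwa [inv_inv] at h1
    · have h1 := k'.cW p hp y hy r hr
      have : r⁻¹ * y * r = y := by rw [mul_assoc, ← h1]; group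
      rwa [this]
  have hdp : ∀ p, p ≠ l → ∀ y ∈ W p, d * y = y * d := by
    intro p hp y hy
    have h1 := hinvW p y hy
    have h2 := k.cW p hp _ h1 e he
    have h3 := k.cW p hp y hy e he
    have h4 : d * y * d⁻¹ = y := by
      calc d * y * d⁻¹ = e⁻¹ * (r * (e * (r⁻¹ * y * r) * e⁻¹) * r⁻¹) * e := by rw [hd]; group
        _ = e⁻¹ * (r * (r⁻¹ * y * r) * r⁻¹) * e := by
            have : e * (r⁻¹ * y * r) * e⁻¹ = r⁻¹ * y * r := by rw [h2]; group
            rw [this]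
        _ = e⁻¹ * (y * e) := by group
        _ = y := by rw [← h3]; group
    calc d * y = d * y * d⁻¹ * d := by group
      _ = y * d := by rw [h4]
  -- the final element
  set g := t * d * t⁻¹ with hg
  have hgp : ∀ p, p ≠ l → ∀ y ∈ W p, g * y = y * g := by
    intro p hp y hy
    have h1 : t⁻¹ * y * t ∈ W p := by
      by_cases hp' : p = m
      · subst hp'
        have h1 := norm_line h k' (inv_mem ht) (inv_mem htB) hy
        rwa [inv_inv] at h1
      · have h1 := k'.cW p hp' y hy t ht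
        have : t⁻¹ * y * t = y := by rw [mul_assoc, ← h1]; group
        rwa [this]
    have h2 := hdp p hp _ h1
    calc g * y = t * (d * (t⁻¹ * y * t)) * t⁻¹ := by rw [hg]; group
      _ = t * (t⁻¹ * y * t * d) * t⁻¹ := by rw [h2]
      _ = y * g := by rw [hg]; group
  have hgz : g * zl * g⁻¹ = zl * zm := by
    calc g * zl * g⁻¹ = t * (d * (t⁻¹ * zl * t) * d⁻¹) * t⁻¹ := by rw [hg]; group
      _ = t * (d * zl * d⁻¹) * t⁻¹ := by
          have : t⁻¹ * zl * t = zl := by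
            have h1 := k'.cW l hlm zl hzlW t ht
            rw [mul_assoc, ← h1]; group
          rw [this]
      _ = (t * zl * t⁻¹) * (t * κ * t⁻¹) := by rw [hdz]; group
      _ = zl * zm := by rw [htl, et]
  have hgo : g * zo = zo * g := by
    have h1 : zo ∈ centralizer ({g} : Set G) := h.mem_of_C (l := l) (fun p hp y hy =>
      mem_centralizer_singleton_iff.2 (hgp p hp y (h.ZW p hy)).symm) hzoJ hzo
    exact (mem_centralizer_singleton_iff.1 h1).symm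
  refine hzm1 (h.no_shift h.zJ h.zC (h.fr.Z_le m hzm) (g := g) ?_)
  have hc : zm * zo = zo * zm := h.fr.Vc (h.fr.ZV m hzm) (h.fr.CV l hzo)
  calc g * z * g⁻¹ = (g * zl * g⁻¹) * (g * zo * g⁻¹) := by rw [ez]; group
    _ = zl * zm * zo := by rw [hgz, hgo]; group
    _ = zl * zo * zm := by rw [mul_assoc, hc, mul_assoc]
    _ = z * zm := by rw [← ez]

end line

variable {K N N1 N0 : ι → Subgroup G}

/-- the module `X ∏ F i` -/
def UU (X : Subgroup G) (N K : ι → Subgroup G) : Subgroup G := X ⊔ ⨆ j, ⁅N j, K j⁆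

theorem F_le (i : ι) : (⁅N i, K i⁆ : Subgroup G) ≤ UU X N K :=
  (le_iSup (fun j => (⁅N j, K j⁆ : Subgroup G)) i).trans le_sup_right

theorem UU_el [Finite G] [Finite ι] (h : TKM S Mg B Q V Xn ZJ B0 X M0 Y0 L W Z C A z)
    (bk : ∀ i, BK B B0 X M0 Y0 W i (K i) (N i) (N1 i) (N0 i)) : IsElementaryAbelian 2 (UU X N K) := by
  have hc : ∀ a ∈ UU X N K, ∀ b ∈ UU X N K, a * b = b * a := fun a ha b hb => ThetaM.fam_commM' h bk ha hb
  refine ⟨⟨⟨fun a b => Subtype.ext (hc a a.2 b b.2)⟩⟩, fun a ha => ?_⟩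
  let D : Subgroup G :=
    { carrier := {x | x ∈ UU X N K ∧ x ^ 2 = 1}
      one_mem' := ⟨one_mem _, by simp⟩
      mul_mem' := by
        rintro x y ⟨hx, hx2⟩ ⟨hy, hy2⟩
        refine ⟨mul_mem hx hy, ?_⟩
        rw [(show Commute x y from hc x hx y hy).mul_pow, hx2, hy2, one_mul]
      inv_mem' := by
        rintro x ⟨hx, hx2⟩
        exact ⟨inv_mem hx, by rw [inv_pow, hx2, inv_one]⟩ }
  have hD : UU X N K ≤ D := by
    have h1 : X ⊔ ⨆ j, (⁅N j, K j⁆ : Subgroup G) ≤ D := by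
      refine sup_le (fun x hx => ⟨mem_sup_left hx, h.elX.2 x hx⟩) (iSup_le fun j x hx => ⟨F_le j hx, ?_⟩)
      exact ((bk j).n4M h).el.2 x hx
    exact h1
  exact (hD ha).2

/-- **(theta)** -/
theorem theta [Finite G] [Finite ι] (h : TKM S Mg B Q V Xn ZJ B0 X M0 Y0 L W Z C A z)
    (bk : ∀ i, BK B B0 X M0 Y0 W i (K i) (N i) (N1 i) (N0 i))
    (hp : ∀ s ∈ Mg, ∀ i j, cj s (W i) = W j → cj s ⁅N i, K i⁆ = ⁅N j, K j⁆) (m : ι) :
    ∃ R ≤ K m, K m ≤ normalizer (R : Set G) ∧ K m ≤ R ⊔ B0 ∧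
      ∀ l, l ≠ m → R ≤ centralizer ((⁅N l, K l⁆ : Subgroup G) : Set G) := by
  classical
  set U := UU X N K with hUdef
  have hU : IsElementaryAbelian 2 U := UU_el h bk
  have hUB : U ≤ B0 := ThetaM.fam_le_B0M h bk
  have hUY : U ≤ Y0 := sup_le h.XY (iSup_le fun i => (bk i).VY0)
  have hKU : ∀ i, K i ≤ normalizer (U : Set G) := fun i => ThetaM.fam_normM h bk i
  have hSU : Mg ≤ normalizer (U : Set G) := ThetaM.fam_SM h fun s hs i => by
    obtain ⟨j, hj, -, -⟩ := h.perm s hs i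
    exact ⟨j, hp s hs i j hj⟩
  obtain ⟨AA, f, -⟩ := h.fml U (normalizer (U : Set G) ⊓ M0) hU hUB hUY inf_le_left inf_le_right
  have hcj : ∀ A ∈ AA, ∀ g ∈ Mg, g ∈ normalizer (U : Set G) → cj g A ∈ AA := by
    intro A hA g hg hgU
    refine f.conj A hA g ⟨hgU, h.SM hg⟩ ?_
    have h1 := cj_mono g (f.le A hA)
    rw [cj_eq_of_mem_normalizer (h.SB0 hg)] at h1
    exact h1.trans (h.B0B.trans h.BS)
  have b : ∀ i, Bl S U (normalizer (U : Set G) ⊓ M0) B0 (U ⊓ X) AA (K i) ⁅N i, K i⁆ := fun i =>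
    (bk i).blM h f (F_le i) (hKU i) (le_inf (hKU i) (bk i).KM)
  have hXU : X ≤ U := le_sup_left
  -- a smallest member
  obtain ⟨A0, hA0⟩ : ∃ A, A ∈ DM U AA := by
    obtain ⟨A1, hA1, hA1'⟩ := (b m).off
    have hn : ¬ A1 ≤ centralizer (U : Set G) := fun h' => hA1' (le_inf (f.le A1 hA1)
      (h'.trans (centralizer_le (F_le m))))
    have h1 : ∃ n, ∃ A ∈ AA, ¬ A ≤ centralizer (U : Set G) ∧ (centralizer (U : Set G)).relIndex A = n :=
      ⟨_, A1, hA1, hn, rfl⟩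
    obtain ⟨A, hA, hA', hn⟩ := Nat.find_spec h1
    refine ⟨A, hA, hA', fun B hB hB' => ?_⟩
    rw [hn]
    exact Nat.find_min' h1 ⟨B, hB, hB', rfl⟩
  -- it moves some `F i`
  obtain ⟨i, hi⟩ : ∃ i, ¬ A0 ≤ centralizer ((⁅N i, K i⁆ : Subgroup G) : Set G) := by
    by_contra hno
    push Not at hno
    refine hA0.2.1 ?_
    have h1 : U ≤ centralizer (A0 : Set G) := by
      refine sup_le ?_ (iSup_le fun j => ?_)
      · intro x hx
        rw [mem_centralizer_iff]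
        intro a ha
        exact h.cX (f.le A0 hA0.1 ha) hx
      · exact le_centralizer_iff.1 (hno j)
    exact le_centralizer_iff.1 h1
  -- conjugate it to `m`
  obtain ⟨s, hs, hsW⟩ := h.tr i m
  have hsF := hp s hs i m hsW
  obtain ⟨A1, hA1⟩ : ∃ A, Fr ((⁅N m, K m⁆ : Subgroup G)) (DM U AA) A := by
    refine ⟨cj s A0, DM_conj hA0 (hSU hs) (hcj A0 hA0.1 s hs (hSU hs)), fun hc => hi ?_⟩
    rw [← hsF, ← cj_centralizer] at hc
    exact NO3S.ThmB.cj_le_cj_iff.1 hc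
  have kb := b m
  have n4 := (bk m).n4M h
  -- members which move `F m` centralise `F l`
  have hcen : ∀ A', Fr ((⁅N m, K m⁆ : Subgroup G)) (DM U AA) A' → ∀ l, l ≠ m → ∀ a ∈ A',
      ∀ u ∈ (⁅N l, K l⁆ : Subgroup G), a * u = u * a := by
    intro A' hA' l hl a ha u hu
    have h1 := comm_U f kb hA' (F_le l hu) ha
    have h2 : a * u * a⁻¹ * u⁻¹ ∈ W m := by
      rw [← (bk m).inf_XM h]
      exact ⟨h1.1, h1.2.2⟩
    have h3 : a * u * a⁻¹ * u⁻¹ ∈ W l := ((bk l).n4M h).quad a (f.le A' hA'.1.1 ha) u hu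
    have h4 : a * u * a⁻¹ * u⁻¹ ∈ W m ⊓ C m := ⟨h2, h.fr.WjC m l (Ne.symm hl) h3⟩
    rw [h.fr.dir m, mem_bot] at h4
    calc a * u = (a * u * a⁻¹ * u⁻¹) * (u * a) := by group
      _ = u * a := by rw [h4, one_mul]
  have hA1B : A1 ≤ B0 := f.le A1 hA1.1.1
  have hA1K : A1 ≤ K m := hA1B.trans kb.BL
  obtain ⟨x, hx, hxm⟩ := n4.mv
  -- the group `R₁ = ⟨A₁, A₁^x⟩`
  set R1 := A1 ⊔ cj x A1 with hR1
  have hxA : cj x A1 ≤ K m := by
    have h1 := cj_mono x hA1K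
    rwa [cj_eq_of_mem_normalizer (le_normalizer hx)] at h1
  have hR1K : R1 ≤ K m := sup_le hA1K hxA
  have hKR1 : K m ≤ R1 ⊔ cB B0 ⁅N m, K m⁆ := by
    refine kb.gen x hx ?_ _ ?_ ?_
    · obtain ⟨w, hw, hw'⟩ := hxm
      refine ⟨w, ⟨n4.V1V hw, ?_⟩, fun h1 => hw' ?_⟩
      · exact ⟨hXU (h.WX m hw), h.WX m hw⟩
      · rw [← (bk m).inf_XM h]
        exact ⟨h1.1, h1.2.2⟩
    · intro b' hb'
      obtain ⟨a, ha, p, hpp, rfl⟩ := dec f kb hA1 hb'
      exact mul_mem (mem_sup_left (mem_sup_left ha)) (mem_sup_right hpp)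
    · rintro _ ⟨b', hb', rfl⟩
      obtain ⟨a, ha, p, hpp, rfl⟩ := dec f kb hA1 hb'
      rw [map_mul]
      refine mul_mem (mem_sup_left (mem_sup_right ⟨a, ha, rfl⟩)) (mem_sup_right ?_)
      exact (mem_normalizer_iff.1 (kb.LP hx) p).1 hpp
  -- `R₁` centralises `F l`
  have m4 := (SigN4.toSig n4).toM4
  have hne : cj x (W m) ≠ W m := by
    intro e
    obtain ⟨w, hw, hw'⟩ := hxm
    exact hw' (e ▸ cj_mem hw)
  have hSB : B0 ≤ Mg := (h.B0B.trans h.BS).trans h.SMg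
  have hR1F : ∀ l, l ≠ m → ∀ w ∈ (⁅N l, K l⁆ : Subgroup G), ∀ r ∈ R1, r * w = w * r := by
    intro l hl w hw
    have hwU : w ∈ U := F_le l hw
    have hwU' : x⁻¹ * w * x ∈ U := by
      have h1 := (mem_normalizer_iff.1 (hKU m (inv_mem hx)) w).1 hwU
      rwa [inv_inv] at h1
    obtain ⟨v0, hv0, c0, hc0, hc0A, ew⟩ := full f kb hA1 hwU'
    have hv : x * v0 * x⁻¹ ∈ (⁅N m, K m⁆ : Subgroup G) := (mem_normalizer_iff.1 (kb.LV hx) v0).1 hv0
    obtain ⟨p, hp1, q, hq, epq⟩ := m4.compl hx hne hv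
    set c := x * c0 * x⁻¹ with hc
    have ew2 : w = p * (q * c) := by
      calc w = x * (x⁻¹ * w * x) * x⁻¹ := by group
        _ = (x * v0 * x⁻¹) * (x * c0 * x⁻¹) := by rw [ew]; group
        _ = p * (q * c) := by rw [epq, hc]; group
    have hn : R1 ≤ centralizer ({q * c} : Set G) := by
      refine sup_le (fun a ha => ?_) ?_
      · rw [mem_centralizer_singleton_iff]
        have h1 : Commute a w := hcen A1 hA1 l hl a ha w hw
        have h2 : Commute a p := h.cX (hA1B ha) (h.WX m hp1)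
        have h3 : q * c = p⁻¹ * w := by rw [ew2]; group
        rw [h3]
        exact (h2.inv_right.mul_right h1)
      · rintro _ ⟨a, ha, rfl⟩
        rw [mem_centralizer_singleton_iff]
        show Commute (x * a * x⁻¹) (q * c)
        have h1 : Commute (x * a * x⁻¹) c := by
          have h2 : Commute a c0 := hc0A a ha
          show x * a * x⁻¹ * (x * c0 * x⁻¹) = x * c0 * x⁻¹ * (x * a * x⁻¹)
          calc x * a * x⁻¹ * (x * c0 * x⁻¹) = x * (a * c0) * x⁻¹ := by group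
            _ = x * (c0 * a) * x⁻¹ := by rw [h2.eq]
            _ = _ := by group
        have h2 : Commute (x * a * x⁻¹) q := by
          obtain ⟨q0, hq0, rfl⟩ := ex_cj hq
          have h3 : Commute a q0 := h.cX (hA1B ha) (h.WX m hq0)
          show x * a * x⁻¹ * (x * q0 * x⁻¹) = x * q0 * x⁻¹ * (x * a * x⁻¹)
          calc x * a * x⁻¹ * (x * q0 * x⁻¹) = x * (a * q0) * x⁻¹ := by group
            _ = x * (q0 * a) * x⁻¹ := by rw [h3.eq]
            _ = _ := by group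
        exact h2.mul_right h1
    by_cases hp0 : p = 1
    · intro r hr
      have h1 := mem_centralizer_singleton_iff.1 (hn hr)
      have h2 : w = q * c := by rw [ew2, hp0, one_mul]
      rw [h2]
      exact h1
    · exfalso
      have hw1 : w ≠ 1 := by
        rintro rfl
        have h1 : p = (q * c)⁻¹ := eq_inv_of_mul_eq_one_left ew2.symm
        have h2 : p ∈ W m ⊓ cj x (W m) := by
          refine ⟨hp1, ?_⟩
          obtain ⟨a, ha, b', hb', hab⟩ : ∃ a ∈ A1, ∃ v ∈ (⁅N m, K m⁆ : Subgroup G), a * v ≠ v * a := by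
            by_contra hno
            push Not at hno
            exact hA1.2 fun a ha => mem_centralizer_iff.2 fun v hv => (hno a ha v hv).symm
          have h3 : Commute (x * a * x⁻¹) p := by
            rw [h1]
            exact (show Commute (x * a * x⁻¹) (q * c) from
              mem_centralizer_singleton_iff.1 (hn (mem_sup_right (cj_mem ha)))).inv_right
          have h4 : x⁻¹ * p * x ∈ W m := by
            refine n4.cent a (hA1B ha) ⟨b', hb', hab⟩ _ ?_ ?_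
            · have h5 := (mem_normalizer_iff.1 (n4.KV (inv_mem hx)) p).1 (n4.V1V hp1)
              rwa [inv_inv] at h5
            · calc a * (x⁻¹ * p * x) = x⁻¹ * ((x * a * x⁻¹) * p) * x := by group
                _ = x⁻¹ * (p * (x * a * x⁻¹)) * x := by rw [h3.eq]
                _ = x⁻¹ * p * x * a := by group
          exact (mem_cj').2 h4
        obtain ⟨q0, hq0, e0⟩ := ex_cj h2.2
        have h5 : q0 = 1 := n4.opp x hx hxm q0 hq0 (e0 ▸ h2.1)
        exact hp0 (by rw [e0, h5]; group)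
      obtain ⟨t, ht, htB, htW, htf⟩ := (bk m).tor
      obtain ⟨r0, hr0, p0, hp0', et⟩ := mem_sup_norm (hR1K.trans kb.LP) (hKR1 ht)
      have hp0B : p0 ∈ B0 := (mem_cB.1 hp0').1
      have hr0e : r0 = t * p0⁻¹ := by rw [et]; group
      have hr0B : r0 ∈ normalizer (B0 : Set G) := by
        rw [hr0e]
        exact mul_mem htB (inv_mem (le_normalizer hp0B))
      have hp0p : p0⁻¹ * p * p0 = p := by
        have h1 : p0 * p = p * p0 := h.cX hp0B (h.WX m hp1)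
        rw [mul_assoc, ← h1]; group
      have hrp : r0 * p * r0⁻¹ = t * p * t⁻¹ := by
        calc r0 * p * r0⁻¹ = t * (p0⁻¹ * p * p0) * t⁻¹ := by rw [hr0e]; group
          _ = _ := by rw [hp0p]
      have hrn : r0 * (q * c) * r0⁻¹ = q * c := by
        have h1 := mem_centralizer_singleton_iff.1 (hn hr0)
        rw [h1]; group
      have hκ : p⁻¹ * (t * p * t⁻¹) ∈ W m := mul_mem (inv_mem hp1) (htW p hp1)
      have hκ1 : p⁻¹ * (t * p * t⁻¹) ≠ 1 := fun e => hp0 (htf p hp1 (inv_mul_eq_one.1 e).symm)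
      refine kill h hl (bk l) (bk m) hw hw1 (hR1K hr0) hr0B hκ hκ1 ?_
      have hcU : (q * c) * (p⁻¹ * (t * p * t⁻¹)) = (p⁻¹ * (t * p * t⁻¹)) * (q * c) := by
        refine f.Yc _ ?_ _ (hXU (h.WX m hκ))
        have h3 : q * c = p⁻¹ * w := by rw [ew2]; group
        rw [h3]
        exact mul_mem (inv_mem (hXU (h.WX m hp1))) hwU
      calc r0 * w * r0⁻¹ = (r0 * p * r0⁻¹) * (r0 * (q * c) * r0⁻¹) := by rw [ew2]; group
        _ = (t * p * t⁻¹) * (q * c) := by rw [hrp, hrn]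
        _ = p * ((p⁻¹ * (t * p * t⁻¹)) * (q * c)) := by group
        _ = p * ((q * c) * (p⁻¹ * (t * p * t⁻¹))) := by rw [hcU]
        _ = w * (p⁻¹ * (t * p * t⁻¹)) := by rw [ew2]; group
  refine ⟨⨆ g : K m, cj (g : G) A1, iSup_le fun g => ?_, ?_, ?_, fun l hl => iSup_le fun g => ?_⟩
  · have h1 := cj_mono (g : G) hA1K
    rwa [cj_eq_of_mem_normalizer (le_normalizer g.2)] at h1
  · have key : ∀ y ∈ K m, cj y (⨆ g : K m, cj (g : G) A1) ≤ ⨆ g : K m, cj (g : G) A1 := by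
      intro y hy
      rw [show cj y (⨆ g : K m, cj (g : G) A1) = (⨆ g : K m, cj (g : G) A1).map (MulAut.conj y).toMonoidHom from rfl,
        Subgroup.map_iSup]
      refine iSup_le fun g => ?_
      have e : (cj (g : G) A1).map (MulAut.conj y).toMonoidHom = cj (y * g) A1 := by
        rw [← cj_cj]
      rw [e]
      exact le_iSup (fun g : K m => cj (g : G) A1) ⟨y * g, mul_mem hy g.2⟩
    intro y hy
    rw [mem_normalizer_iff_cj]
    refine le_antisymm (key y hy) ?_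
    have h1 := cj_mono y (key y⁻¹ (inv_mem hy))
    rwa [cj_cj, mul_inv_cancel, cj_one] at h1
  · exact le_of f kb hA1 le_sup_right fun y hy =>
      (le_iSup (fun g : K m => cj (g : G) A1) ⟨y, hy⟩).trans le_sup_left
  · obtain ⟨r, hr, p, hpp, eg⟩ := mem_sup_norm (hR1K.trans kb.LP) (hKR1 g.2)
    have hpB : p ∈ B0 := (mem_cB.1 hpp).1
    have hpU : p ∈ normalizer (U : Set G) := hKU m (kb.BL hpB)
    have hfr : Fr ((⁅N m, K m⁆ : Subgroup G)) (DM U AA) (cj p A1) := by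
      refine ⟨DM_conj hA1.1 hpU (hcj A1 hA1.1.1 p (hSB hpB) hpU), fun hc => hA1.2 ?_⟩
      have e : cj p (⁅N m, K m⁆ : Subgroup G) = ⁅N m, K m⁆ := cj_eq_of_mem_normalizer (kb.LV (kb.BL hpB))
      rw [← e, ← cj_centralizer] at hc
      exact NO3S.ThmB.cj_le_cj_iff.1 hc
    rintro y hy
    have hy' : y ∈ cj r (cj p A1) := by
      rw [cj_cj, ← eg]
      exact hy
    obtain ⟨a, ha, rfl⟩ := ex_cj hy'
    rw [mem_centralizer_iff]
    intro w hw
    have h1 : r * w = w * r := hR1F l hl w hw r hr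
    have h2 : a * w = w * a := hcen _ hfr l hl a ha w hw
    have h3 : Commute r w := h1
    have h4 : Commute a w := h2
    exact ((h3.mul_left h4).mul_left h3.inv_left).symm

end ThetaM

end Cfsg.Agent.Omega.OM.Lev.Low.TorusK
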